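import Mathlib
import Cfsg.Agent.Lib.MinimalNormal

/-!
The geometric mean of the fixed point counts of a solvable group acting irreducibly and
non-trivially on an abelian group is at most the square root of the order of that group.
-/

set_option autoImplicit false

namespace Cfsg.Agent.Lib.FixedAverage

open Subgroup
open scoped commutatorElement

variable {Γ V : Type*} [Group Γ] [CommGroup V] [MulDistribMulAction Γ V]

/-- The elements fixed by every element of `S`. -/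
def fixBy (S : Subgroup Γ) : Subgroup V where
  carrier := {v | ∀ s ∈ S, s • v = v}
  one_mem' := fun s _ => smul_one s
  mul_mem' := fun {a b} ha hb s hs => by rw [smul_mul', ha s hs, hb s hs]
  inv_mem' := fun {a} ha s hs => by rw [smul_inv', ha s hs]

/-- The elements fixed by `g`. -/
def fixAt (g : Γ) : Subgroup V where
  carrier := {v | g • v = v}
  one_mem' := smul_one g
  mul_mem' := fun {a b} ha hb => by
    simp only [Set.mem_setOf_eq] at *
    rw [smul_mul', ha, hb]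
  inv_mem' := fun {a} ha => by
    simp only [Set.mem_setOf_eq] at *
    rw [smul_inv', ha]

theorem mem_fixBy {S : Subgroup Γ} {v : V} : v ∈ fixBy S ↔ ∀ s ∈ S, s • v = v := Iff.rfl

theorem mem_fixAt {g : Γ} {v : V} : v ∈ fixAt g ↔ g • v = v := Iff.rfl

theorem mem_fixBy_iff_le_stabilizer {S : Subgroup Γ} {v : V} :
    v ∈ fixBy S ↔ S ≤ MulAction.stabilizer Γ v := Iff.rfl

theorem mem_fixBy_sup {S T : Subgroup Γ} {v : V} (h₁ : v ∈ fixBy S) (h₂ : v ∈ fixBy T) :
    v ∈ fixBy (S ⊔ T) :=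
  mem_fixBy_iff_le_stabilizer.mpr
    (sup_le (mem_fixBy_iff_le_stabilizer.mp h₁) (mem_fixBy_iff_le_stabilizer.mp h₂))

theorem mem_fixBy_zpowers {g : Γ} {v : V} (h : g • v = v) : v ∈ fixBy (zpowers g) :=
  mem_fixBy_iff_le_stabilizer.mpr (zpowers_le.mpr h)

theorem card_sup_of_inf_eq_bot [Finite V] {A B : Subgroup V} (h : A ⊓ B = ⊥) :
    Nat.card (A ⊔ B : Subgroup V) = Nat.card A * Nat.card B := by
  rw [← Nat.card_prod]
  refine (Nat.card_eq_of_bijective (fun z : A × B => (⟨(z.1 : V) * z.2,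
    mul_mem (mem_sup_left z.1.2) (mem_sup_right z.2.2)⟩ : (A ⊔ B : Subgroup V))) ⟨?_, ?_⟩).symm
  · intro x y hxy
    have h1 : (x.1 : V) * x.2 = y.1 * y.2 := congrArg Subtype.val hxy
    have h2 : (y.1 : V)⁻¹ * x.1 ∈ A ⊓ B := mem_inf.mpr ⟨mul_mem (inv_mem y.1.2) x.1.2, by
      rw [show (y.1 : V)⁻¹ * x.1 = (y.2 : V) * (x.2 : V)⁻¹ by
        rw [eq_mul_inv_iff_mul_eq, mul_assoc, h1, inv_mul_cancel_left]]
      exact mul_mem y.2.2 (inv_mem x.2.2)⟩
    rw [h, mem_bot, inv_mul_eq_one] at h2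
    rw [← h2, mul_right_inj] at h1
    exact Prod.ext (Subtype.ext h2.symm) (Subtype.ext h1)
  · rintro ⟨w, hw⟩
    obtain ⟨a, ha, b, hb, rfl⟩ := mem_sup.mp hw
    exact ⟨(⟨a, ha⟩, ⟨b, hb⟩), rfl⟩

theorem card_mul_le_of_inf_eq_bot [Finite V] {A B C : Subgroup V} (hA : A ≤ C) (hB : B ≤ C)
    (h : A ⊓ B = ⊥) : Nat.card A * Nat.card B ≤ Nat.card C := by
  rw [← card_sup_of_inf_eq_bot h]
  exact Subgroup.card_le_of_le (sup_le hA hB)

variable [Finite Γ]

/-- The product of the images of an element under the elements of a subgroup. -/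
noncomputable def normMap (K : Subgroup Γ) : V →* V :=
  letI := Fintype.ofFinite K
  ∏ k : K, MulDistribMulAction.toMonoidHom V (k : Γ)

theorem normMap_apply (K : Subgroup Γ) [Fintype K] (v : V) :
    normMap K v = ∏ k : K, (k : Γ) • v := by
  simp only [normMap, MonoidHom.finsetProd_apply, MulDistribMulAction.toMonoidHom_apply]
  exact Finset.prod_congr (Finset.ext fun k => by simp) fun _ _ => rfl

theorem smul_normMap (g : Γ) (K : Subgroup Γ) (v : V) :
    g • normMap K v = normMap (K.map (MulAut.conj g).toMonoidHom) (g • v) := by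
  letI := Fintype.ofFinite K
  letI := Fintype.ofFinite (K.map (MulAut.conj g).toMonoidHom)
  rw [normMap_apply, normMap_apply, Finset.smul_prod']
  refine Fintype.prod_equiv (K.equivMapOfInjective (MulAut.conj g).toMonoidHom
    (MulAut.conj g).injective).toEquiv _ _ fun k => ?_
  show g • (k : Γ) • v = (g * (k : Γ) * g⁻¹) • g • v
  rw [smul_smul, smul_smul, inv_mul_cancel_right]

theorem normMap_mem (K : Subgroup Γ) (v : V) : normMap K v ∈ fixBy K := by
  letI := Fintype.ofFinite K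
  intro s hs
  rw [normMap_apply, Finset.smul_prod']
  refine Fintype.prod_equiv (Equiv.mulLeft (⟨s, hs⟩ : K)) _ _ fun k => ?_
  rw [smul_smul]
  rfl

theorem normMap_of_fix {K : Subgroup Γ} {v : V} (hv : v ∈ fixBy K) :
    normMap K v = v ^ Nat.card K := by
  letI := Fintype.ofFinite K
  rw [normMap_apply, Finset.prod_congr rfl fun (k : K) _ => hv (k : Γ) k.2, Finset.prod_const,
    Finset.card_univ, Fintype.card_eq_nat_card]

theorem normMap_mem_of_invariant {K : Subgroup Γ} {U : Subgroup V}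
    (hU : ∀ k ∈ K, ∀ v ∈ U, k • v ∈ U) {v : V} (hv : v ∈ U) : normMap K v ∈ U := by
  letI := Fintype.ofFinite K
  rw [normMap_apply]
  exact prod_mem fun k _ => hU k k.2 v hv

theorem map_conj_eq_self_of_commute {K : Subgroup Γ} {m : Γ} (h : ∀ k ∈ K, m * k = k * m) :
    K.map (MulAut.conj m).toMonoidHom = K := by
  ext z
  constructor
  · rintro ⟨k, hk, rfl⟩
    show m * k * m⁻¹ ∈ K
    rwa [h k hk, mul_inv_cancel_right]
  · intro hz
    exact ⟨z, hz, show m * z * m⁻¹ = z by rw [h z hz, mul_inv_cancel_right]⟩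

section coset

variable [Finite V] {M : Subgroup Γ} {q : ℕ}

theorem prod_cycle_fixed {c : Γ} (hc : c ^ q = 1) (v : V) :
    c • (∏ j ∈ Finset.range q, c ^ j • v) = ∏ j ∈ Finset.range q, c ^ j • v := by
  have h1 := Finset.prod_range_succ (fun j => c ^ j • v) q
  have h2 := Finset.prod_range_succ' (fun j => c ^ j • v) q
  rw [h1] at h2
  simp only [hc, pow_zero, one_smul] at h2
  rw [Finset.smul_prod']
  have h3 := mul_right_cancel h2
  rw [Finset.prod_congr rfl fun j _ => show c • c ^ j • v = c ^ (j + 1) • v by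
    rw [smul_smul, ← pow_succ']]
  exact h3.symm

/-- A subgroup maximal with a non-trivial fixed point is a hyperplane. -/
theorem exists_hyperplane (hq : q.Prime) (hcomm : ∀ a ∈ M, ∀ b ∈ M, a * b = b * a)
    (hexp : ∀ a ∈ M, a ^ q = 1) (hcop : (Nat.card V).Coprime q) (hfix : fixBy M = (⊥ : Subgroup V))
    {U : Subgroup V} (hU : U ≠ ⊥) (hUinv : ∀ m ∈ M, ∀ v ∈ U, m • v ∈ U) :
    ∃ K ≤ M, K ≠ M ∧ U ⊓ fixBy K ≠ ⊥ ∧ ∀ n ∈ M, n ∉ K → K ⊔ zpowers n = M := by
  classical
  obtain ⟨K, ⟨hKM, hK⟩, hmax⟩ := Set.exists_max_image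
    {K : Subgroup Γ | K ≤ M ∧ U ⊓ fixBy K ≠ ⊥} (fun K => Nat.card K) (Set.toFinite _)
    ⟨⊥, bot_le, by
      rwa [show fixBy (⊥ : Subgroup Γ) = (⊤ : Subgroup V) from eq_top_iff.mpr fun v _ s hs => by
        rw [mem_bot.mp hs, one_smul], inf_top_eq]⟩
  refine ⟨K, hKM, fun e => hK (by rw [e, hfix, inf_bot_eq]), hK, fun a ha haK => ?_⟩
  by_contra hne
  obtain ⟨b, hb, hbK⟩ : ∃ b ∈ M, b ∉ K ⊔ zpowers a := by
    by_contra h
    push Not at h
    exact hne (le_antisymm (sup_le hKM (zpowers_le.mpr ha)) h)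
  obtain ⟨v, hv, hv1⟩ := (Subgroup.ne_bot_iff_exists_ne_one.mp hK : ∃ v : ↥(U ⊓ fixBy K), v ≠ 1) |>
    fun ⟨v, h⟩ => (⟨(v : V), v.2, fun e => h (Subtype.ext e)⟩ : ∃ v ∈ U ⊓ fixBy K, v ≠ 1)
  have kill : ∀ c ∈ M, c ∉ K → ∏ j ∈ Finset.range q, c ^ j • v = 1 := by
    intro c hc hcK
    by_contra h1
    have hmemK : (∏ j ∈ Finset.range q, c ^ j • v) ∈ fixBy K := by
      intro s hs
      rw [Finset.smul_prod']
      refine Finset.prod_congr rfl fun j _ => ?_
      rw [smul_smul, hcomm s (hKM hs) _ (pow_mem hc j), mul_smul, hv.2 s hs]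
    have hmem : (∏ j ∈ Finset.range q, c ^ j • v) ∈ U ⊓ fixBy (K ⊔ zpowers c) :=
      mem_inf.mpr ⟨prod_mem fun j _ => hUinv _ (pow_mem hc j) v hv.1,
        mem_fixBy_sup hmemK (mem_fixBy_zpowers (prod_cycle_fixed (hexp c hc) v))⟩
    have hle := hmax (K ⊔ zpowers c) ⟨sup_le hKM (zpowers_le.mpr hc), fun e => h1 (by
      rwa [e, mem_bot] at hmem)⟩
    have := eq_of_le_of_card_ge (le_sup_left : K ≤ K ⊔ zpowers c) hle
    exact hcK (this.symm ▸ mem_sup_right (mem_zpowers c))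
  have hline : ∀ i, a * b ^ i ∈ M ∧ a * b ^ i ∉ K := by
    intro i
    refine ⟨mul_mem ha (pow_mem hb i), fun h => ?_⟩
    have hbi : b ^ i ∈ K ⊔ zpowers a := by
      rw [show b ^ i = a⁻¹ * (a * b ^ i) by group]
      exact mul_mem (inv_mem (mem_sup_right (mem_zpowers a))) (mem_sup_left h)
    rcases Nat.coprime_or_dvd_of_prime hq i with hc | hd
    · refine hbK ?_
      obtain ⟨n, hn⟩ := exists_pow_eq_self_of_coprime
        (hc.symm.coprime_dvd_right (orderOf_dvd_of_pow_eq_one (hexp b hb)))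
      rw [← hn]
      exact pow_mem hbi n
    · obtain ⟨l, rfl⟩ := hd
      rw [pow_mul, hexp b hb, one_pow, mul_one] at h
      exact haK h
  have hcol : ∀ j ∈ Finset.range q, j ≠ 0 → ∏ i ∈ Finset.range q, (a * b ^ i) ^ j • v = 1 := by
    intro j hj hj0
    have hbj : b ^ j ∉ K := by
      intro h
      refine hbK (mem_sup_left ?_)
      obtain ⟨n, hn⟩ := exists_pow_eq_self_of_coprime
        ((Nat.coprime_of_lt_prime hj0 (Finset.mem_range.mp hj) hq).symm.coprime_dvd_right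
          (orderOf_dvd_of_pow_eq_one (hexp b hb)))
      rw [← hn]
      exact pow_mem h n
    rw [Finset.prod_congr rfl fun i _ => show (a * b ^ i) ^ j • v = a ^ j • (b ^ j) ^ i • v by
      rw [(show Commute a (b ^ i) from hcomm a ha _ (pow_mem hb i)).mul_pow, mul_smul, ← pow_mul,
        ← pow_mul, Nat.mul_comm i j], ← Finset.smul_prod', kill _ (pow_mem hb j) hbj, smul_one]
  have h0 : ∏ i ∈ Finset.range q, ∏ j ∈ Finset.range q, (a * b ^ i) ^ j • v = 1 :=
    Finset.prod_eq_one fun i _ => kill _ (hline i).1 (hline i).2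
  rw [Finset.prod_comm, Finset.prod_eq_single 0 hcol
    (fun h => absurd (Finset.mem_range.mpr hq.pos) h)] at h0
  simp only [pow_zero, one_smul, Finset.prod_const, Finset.card_range] at h0
  refine hv1 (orderOf_eq_one_iff.mp (Nat.eq_one_of_dvd_coprimes hcop ?_
    (orderOf_dvd_of_pow_eq_one h0)))
  exact orderOf_dvd_natCard v

theorem one_of_pow_card (hq : q.Prime) (hexp : ∀ a ∈ M, a ^ q = 1)
    (hcop : (Nat.card V).Coprime q) {L : Subgroup Γ} (hL : L ≤ M) :
    (Nat.card V).Coprime (Nat.card L) := by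
  haveI : Fact q.Prime := ⟨hq⟩
  have hMp : IsPGroup q L := fun m => ⟨1, by rw [pow_one]; exact Subtype.ext (hexp m (hL m.2))⟩
  obtain ⟨n, hn⟩ := IsPGroup.iff_card.mp hMp
  rw [hn]
  exact hcop.pow_right n

theorem normMap_eq_one_of_sup (hcomm : ∀ a ∈ M, ∀ b ∈ M, a * b = b * a)
    (hfix : fixBy M = (⊥ : Subgroup V)) {L L' : Subgroup Γ} (hL : L ≤ M) (hL' : L' ≤ M)
    (hsup : L ⊔ L' = M) {w : V} (hw : w ∈ fixBy L) : normMap L' w = (1 : V) := by
  have h1 : normMap L' w ∈ fixBy L := by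
    intro s hs
    rw [smul_normMap,
      map_conj_eq_self_of_commute fun k hk => hcomm s (hL hs) k (hL' hk), hw s hs]
  have h2 := mem_fixBy_sup h1 (normMap_mem L' w)
  rwa [hsup, hfix, mem_bot] at h2

/-- The decomposition of `U` belonging to a set of hyperplanes. -/
theorem hyperplane_decomposition (hcomm : ∀ a ∈ M, ∀ b ∈ M, a * b = b * a)
    (hfix : fixBy M = (⊥ : Subgroup V)) (O : Finset (Subgroup Γ)) (c : ℕ)
    (hc : (Nat.card V).Coprime c) (hle : ∀ L ∈ O, L ≤ M) (hcard : ∀ L ∈ O, Nat.card L = c)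
    (hsup : ∀ L ∈ O, ∀ L' ∈ O, L ≠ L' → L ⊔ L' = M)
    (U : Subgroup V) (hUM : ∀ m ∈ M, ∀ v ∈ U, m • v ∈ U) :
    (⨆ L ∈ O, U ⊓ fixBy L) ⊓ (U ⊓ ⨅ L ∈ O, (normMap L).ker) = (⊥ : Subgroup V) ∧
    (⨆ L ∈ O, U ⊓ fixBy L) ⊔ (U ⊓ ⨅ L ∈ O, (normMap L).ker) = U := by
  classical
  have hcross : ∀ L ∈ O, ∀ L' ∈ O, L ≠ L' → ∀ w ∈ fixBy L, normMap L' w = (1 : V) :=
    fun L hL L' hL' hne w hw =>
      normMap_eq_one_of_sup hcomm hfix (hle L hL) (hle L' hL') (hsup L hL L' hL' hne) hw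
  have hNinv : ∀ L ∈ O, ∀ v ∈ U, normMap L v ∈ U := fun L hL v hv =>
    normMap_mem_of_invariant (fun k hk => hUM k (hle L hL hk)) hv
  set A : Subgroup V := ⨆ L ∈ O, U ⊓ fixBy L with hA
  set U' : Subgroup V := U ⊓ ⨅ L ∈ O, (normMap L).ker with hU'
  have hmemU' : ∀ v, v ∈ U' ↔ v ∈ U ∧ ∀ L ∈ O, normMap L v = 1 := by
    intro v; simp [hU', Subgroup.mem_iInf]
  have hWA : ∀ L ∈ O, U ⊓ fixBy L ≤ A := fun L hL =>
    le_iSup₂ (f := fun L (_ : L ∈ O) => U ⊓ fixBy (V := V) L) L hL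
  have hAU : A ≤ U := iSup₂_le fun L _ => inf_le_left
  set P : V →* V := ∏ L ∈ O, normMap L with hP
  have hPapply : ∀ v, P v = ∏ L ∈ O, normMap L v := fun v => by
    simp [hP, MonoidHom.finsetProd_apply]
  have hPA : ∀ a ∈ A, P a = a ^ c := by
    have : A ≤ MonoidHom.eqLocus P (powMonoidHom c) := by
      refine iSup₂_le fun L hL w hw => ?_
      show P w = w ^ c
      rw [hPapply, Finset.prod_eq_single L
        (fun L' hL' hne => hcross L hL L' hL' (Ne.symm hne) w hw.2) (fun h => absurd hL h),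
        normMap_of_fix hw.2, hcard L hL]
    exact fun a ha => this ha
  refine ⟨?_, le_antisymm (sup_le hAU inf_le_left) fun v hv => ?_⟩
  · refine eq_bot_iff.mpr fun v hv => mem_bot.mpr ?_
    have h1 : v ^ c = 1 := by
      rw [← hPA v hv.1, hPapply]
      exact Finset.prod_eq_one fun L hL => ((hmemU' v).mp hv.2).2 L hL
    exact orderOf_eq_one_iff.mp
      (Nat.eq_one_of_dvd_coprimes hc (orderOf_dvd_natCard v) (orderOf_dvd_of_pow_eq_one h1))
  · have hPv : P v ∈ A := by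
      rw [hPapply]
      exact prod_mem fun L hL => hWA L hL (mem_inf.mpr ⟨hNinv L hL v hv, normMap_mem L v⟩)
    have hd : v ^ c * (P v)⁻¹ ∈ U' := by
      refine (hmemU' _).mpr ⟨mul_mem (pow_mem hv _) (inv_mem (hAU hPv)), fun L hL => ?_⟩
      rw [map_mul, map_inv, map_pow, hPapply, map_prod,
        Finset.prod_eq_single L (fun L' hL' hne => hcross L' hL' L hL hne _ (normMap_mem L' v))
          (fun h => absurd hL h),
        normMap_of_fix (normMap_mem L v), hcard L hL, mul_inv_cancel]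
    have hpow : v ^ c ∈ A ⊔ U' := by
      rw [show v ^ c = P v * (v ^ c * (P v)⁻¹) by rw [mul_comm, inv_mul_cancel_right]]
      exact mul_mem (mem_sup_left hPv) (mem_sup_right hd)
    obtain ⟨n, hn⟩ := exists_pow_eq_self_of_coprime (x := v)
      (hc.symm.coprime_dvd_right (orderOf_dvd_natCard v))
    rw [← hn]
    exact pow_mem hpow n

/-- Fixed points split along an invariant decomposition. -/
theorem card_inf_fixAt {A U' U : Subgroup V} (hdisj : A ⊓ U' = ⊥) (hsup : A ⊔ U' = U) {y : Γ}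
    (hA : ∀ v ∈ A, y • v ∈ A) (hU' : ∀ v ∈ U', y • v ∈ U') :
    Nat.card (U ⊓ fixAt y : Subgroup V) =
      Nat.card (A ⊓ fixAt y : Subgroup V) * Nat.card (U' ⊓ fixAt y : Subgroup V) := by
  rw [← card_sup_of_inf_eq_bot (le_bot_iff.mp ((inf_le_inf inf_le_left inf_le_left).trans hdisj.le))]
  refine congrArg (fun S : Subgroup V => Nat.card S) ?_
  refine le_antisymm ?_ (sup_le (inf_le_inf_right _ (hsup ▸ le_sup_left))
    (inf_le_inf_right _ (hsup ▸ le_sup_right)))
  intro v hv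
  obtain ⟨a, ha, u, hu, rfl⟩ := mem_sup.mp (hsup.symm ▸ hv.1 : v ∈ A ⊔ U')
  have hfa : y • a * y • u = a * u := by rw [← smul_mul']; exact hv.2
  have hz : a⁻¹ * y • a ∈ A ⊓ U' := by
    refine mem_inf.mpr ⟨mul_mem (inv_mem ha) (hA a ha), ?_⟩
    rw [show a⁻¹ * y • a = u * (y • u)⁻¹ by
      rw [eq_mul_inv_iff_mul_eq, mul_assoc, hfa, inv_mul_cancel_left]]
    exact mul_mem hu (inv_mem (hU' u hu))
  rw [hdisj, mem_bot, inv_mul_eq_one] at hz
  rw [← hz, mul_right_inj] at hfa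
  exact mul_mem (mem_sup_left (mem_inf.mpr ⟨ha, mem_fixAt.mpr hz.symm⟩))
    (mem_sup_right (mem_inf.mpr ⟨hu, mem_fixAt.mpr hfa⟩))

omit [Finite Γ] in
theorem prod_sq_le_of_pairs {M' : Type*} [Group M'] [Fintype M'] (f : M' → ℕ) (a : M') (B : ℕ)
    (h : ∀ m, f m * f (m * a) ≤ B) : ∏ m, f m ^ 2 ≤ B ^ Nat.card M' := by
  have e : ∏ m, f (m * a) = ∏ m, f m := Equiv.prod_comp (Equiv.mulRight a) f
  calc ∏ m, f m ^ 2 = (∏ m, f m) * ∏ m, f (m * a) := by
        rw [e, ← Finset.prod_mul_distrib]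
        exact Finset.prod_congr rfl fun _ _ => sq _
    _ = ∏ m, f m * f (m * a) := Finset.prod_mul_distrib.symm
    _ ≤ ∏ _m : M', B := Finset.prod_le_prod' fun m _ => h m
    _ = _ := by rw [Finset.prod_const, Finset.card_univ, Fintype.card_eq_nat_card]

/-- The bound when the hyperplane is normalised: consecutive elements are paired. -/
theorem bound_of_fixed [Fintype M] (hfix : fixBy M = (⊥ : Subgroup V)) {K : Subgroup Γ} {n : Γ}
    (hn : n ∈ M) (hKn : K ⊔ zpowers n = M) {A : Subgroup V} (hA : A ≤ fixBy K) (x : Γ) :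
    ∏ m : M, Nat.card (A ⊓ fixAt (x * (m : Γ)) : Subgroup V) ^ 2 ≤ Nat.card A ^ Nat.card M := by
  refine prod_sq_le_of_pairs (M' := M)
    (fun m => Nat.card (A ⊓ fixAt (x * (m : Γ)) : Subgroup V)) ⟨n, hn⟩ _ fun m => ?_
  refine card_mul_le_of_inf_eq_bot inf_le_left inf_le_left (eq_bot_iff.mpr fun v hv => ?_)
  have h1 : (x * (m : Γ)) • v = v := hv.1.2
  have h2 : (x * ((m : Γ) * n)) • v = v := hv.2.2
  rw [← mul_assoc, mul_smul] at h2
  have h3 : n • v = v := smul_left_cancel _ (h2.trans h1.symm)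
  have h4 := mem_fixBy_sup (hA hv.1.1) (mem_fixBy_zpowers h3)
  rwa [hKn, hfix] at h4

/-- The bound when the hyperplane is moved. -/
theorem bound_of_moved (hfix : fixBy M = (⊥ : Subgroup V)) {K K' : Subgroup Γ} {y : Γ}
    (hK' : K.map (MulAut.conj y).toMonoidHom = K') (hsup : K ⊔ K' = M) {A W : Subgroup V}
    (hW : W ≤ A) (hWK : W ≤ fixBy K) (hNW : ∀ v ∈ A, normMap K v ∈ W)
    (hker : ∀ v ∈ A, y • v = v → normMap K v = 1 → v = 1) :
    Nat.card (A ⊓ fixAt y : Subgroup V) ^ 2 ≤ Nat.card A := by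
  set C := A ⊓ fixAt y with hC
  have h1 : Nat.card C * Nat.card W ≤ Nat.card A := by
    refine card_mul_le_of_inf_eq_bot inf_le_left hW (eq_bot_iff.mpr fun v hv => ?_)
    have hy : y • v = v := hv.1.2
    have hfix' : v ∈ fixBy K' := by
      rw [← hK']
      rintro _ ⟨k, hk, rfl⟩
      show (y * k * y⁻¹) • v = v
      conv_lhs => rw [← hy]
      rw [smul_smul, inv_mul_cancel_right, mul_smul, hWK hv.2 k hk, hy]
    have h4 := mem_fixBy_sup (hWK hv.2) hfix'
    rwa [hsup, hfix] at h4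
  have h2 : Nat.card C ≤ Nat.card W := by
    refine Nat.card_le_card_of_injective
      (fun v : C => (⟨normMap K (v : V), hNW _ v.2.1⟩ : W)) ?_
    intro v w hvw
    have he : normMap K ((v : V) * (w : V)⁻¹) = 1 := by
      rw [map_mul, map_inv, show normMap K (v : V) = normMap K (w : V) from congrArg Subtype.val hvw,
        mul_inv_cancel]
    have hmem : (v : V) * (w : V)⁻¹ ∈ C := mul_mem v.2 (inv_mem w.2)
    have h3 := hker _ hmem.1 hmem.2 he
    rw [mul_inv_eq_one] at h3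
    exact Subtype.ext h3
  calc Nat.card C ^ 2 = Nat.card C * Nat.card C := sq _
    _ ≤ Nat.card C * Nat.card W := Nat.mul_le_mul_left _ h2
    _ ≤ _ := h1

theorem map_conj_mul_eq (hcomm : ∀ a ∈ M, ∀ b ∈ M, a * b = b * a) {m x : Γ} (hm : m ∈ M)
    {L : Subgroup Γ} (hL : L ≤ M) :
    L.map (MulAut.conj (x * m)).toMonoidHom = L.map (MulAut.conj x).toMonoidHom := by
  conv_rhs => rw [← map_conj_eq_self_of_commute (K := L) (m := m) fun k hk => hcomm m hm k (hL hk),
    Subgroup.map_map]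
  congr 1
  ext z
  simp [mul_assoc]

/-- The orbit of a hyperplane. -/
theorem exists_orbit {K : Subgroup Γ} {x : Γ} (hx : M.map (MulAut.conj x).toMonoidHom = M)
    (hKM : K ≤ M) (hhyp : ∀ n ∈ M, n ∉ K → K ⊔ zpowers n = M) :
    ∃ O : Finset (Subgroup Γ), K ∈ O ∧ (∀ L ∈ O, L ≤ M) ∧ (∀ L ∈ O, Nat.card L = Nat.card K) ∧
      (∀ L ∈ O, ∀ L' ∈ O, L ≠ L' → L ⊔ L' = M) ∧
      (∀ L ∈ O, L.map (MulAut.conj x).toMonoidHom ∈ O) ∧
      (∀ L ∈ O, ∃ L' ∈ O, L'.map (MulAut.conj x).toMonoidHom = L) ∧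
      (∀ p : Subgroup Γ → Prop, p K → (∀ L ∈ O, p L → p (L.map (MulAut.conj x).toMonoidHom)) →
        ∀ L ∈ O, p L) := by
  classical
  set σ : Subgroup Γ → Subgroup Γ := fun L => L.map (MulAut.conj x).toMonoidHom with hσ
  have hσi : Function.Injective σ := map_injective (f := (MulAut.conj x).toMonoidHom)
    (MulAut.conj x).injective
  letI := Fintype.ofFinite (Subgroup Γ)
  set O : Finset (Subgroup Γ) := Finset.univ.filter fun L => ∃ i : ℕ, σ^[i] K = L with hO
  have hmemO : ∀ L, L ∈ O ↔ ∃ i : ℕ, σ^[i] K = L := by intro L; simp [hO]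
  have hiter : ∀ i, σ^[i] K ≤ M ∧ Nat.card (σ^[i] K) = Nat.card K ∧
      (∀ n ∈ M, n ∉ σ^[i] K → σ^[i] K ⊔ zpowers n = M) := by
    intro i
    induction i with
    | zero => exact ⟨hKM, rfl, hhyp⟩
    | succ i hi =>
      rw [Function.iterate_succ_apply']
      refine ⟨(map_mono hi.1).trans hx.le,
        (Nat.card_congr (equivMapOfInjective _ _ (MulAut.conj x).injective).toEquiv.symm).trans
          hi.2.1, fun n hn hnn => ?_⟩
      rw [← hx] at hn
      obtain ⟨n₀, hn₀, rfl⟩ := hn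
      show (σ^[i] K).map _ ⊔ _ = M
      rw [← MonoidHom.map_zpowers, ← Subgroup.map_sup,
        hi.2.2 n₀ hn₀ fun h => hnn ⟨n₀, h, rfl⟩, hx]
  have hmapO : ∀ L ∈ O, σ L ∈ O := by
    intro L hL
    obtain ⟨i, rfl⟩ := (hmemO L).mp hL
    exact (hmemO _).mpr ⟨i + 1, Function.iterate_succ_apply' σ i K⟩
  have hσO : O.image σ = O := by
    refine Finset.eq_of_subset_of_card_le ?_ ?_
    · intro L hL
      obtain ⟨L', hL', rfl⟩ := Finset.mem_image.mp hL
      exact hmapO L' hL'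
    · rw [Finset.card_image_of_injective _ hσi]
  refine ⟨O, (hmemO K).mpr ⟨0, rfl⟩, ?_, ?_, ?_, hmapO, ?_, ?_⟩
  · intro L hL
    obtain ⟨i, rfl⟩ := (hmemO L).mp hL
    exact (hiter i).1
  · intro L hL
    obtain ⟨i, rfl⟩ := (hmemO L).mp hL
    exact (hiter i).2.1
  · intro L hL L' hL' hne
    obtain ⟨i, rfl⟩ := (hmemO L).mp hL
    obtain ⟨j, rfl⟩ := (hmemO L').mp hL'
    obtain ⟨n, hn, hnL⟩ : ∃ n ∈ σ^[j] K, n ∉ σ^[i] K := by
      by_contra h
      push Not at h
      exact hne (eq_of_le_of_card_ge h (by rw [(hiter i).2.1, (hiter j).2.1])).symm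
    refine le_antisymm (sup_le (hiter i).1 (hiter j).1) ?_
    conv_lhs => rw [← (hiter i).2.2 n ((hiter j).1 hn) hnL]
    exact sup_le_sup_left (zpowers_le.mpr hn) _
  · intro L hL
    rw [← hσO] at hL
    obtain ⟨L', hL', e⟩ := Finset.mem_image.mp hL
    exact ⟨L', hL', e⟩
  · intro p hp0 hps L hL
    obtain ⟨i, rfl⟩ := (hmemO L).mp hL
    induction i with
    | zero => exact hp0
    | succ i ih =>
      rw [Function.iterate_succ_apply']
      exact hps _ ((hmemO _).mpr ⟨i, rfl⟩) (ih ((hmemO _).mpr ⟨i, rfl⟩))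

/-- The fixed point bound on a coset `x M` of an elementary abelian group without fixed points. -/
theorem coset_bound [Fintype M] (hq : q.Prime) (hcomm : ∀ a ∈ M, ∀ b ∈ M, a * b = b * a)
    (hexp : ∀ a ∈ M, a ^ q = 1) (hcop : (Nat.card V).Coprime q) (hfix : fixBy M = (⊥ : Subgroup V))
    {x : Γ} (hx : M.map (MulAut.conj x).toMonoidHom = M) (U : Subgroup V)
    (hUM : ∀ m ∈ M, ∀ v ∈ U, m • v ∈ U) (hUx : ∀ v ∈ U, x • v ∈ U) :
    ∏ m : M, Nat.card (U ⊓ fixAt (x * (m : Γ)) : Subgroup V) ^ 2 ≤ Nat.card U ^ Nat.card M := by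
  classical
  induction h : Nat.card U using Nat.strong_induction_on generalizing U with
  | _ N ih =>
  subst h
  by_cases hU : U = ⊥
  · subst hU
    simp
  obtain ⟨K, hKM, hKne, hKfix, hhyp⟩ := exists_hyperplane hq hcomm hexp hcop hfix hU hUM
  obtain ⟨O, hKO, hOle, hOcard, hsup, hmapO, hpreO, hOind⟩ := exists_orbit hx hKM hhyp
  obtain ⟨hdisj, hsupU⟩ := hyperplane_decomposition hcomm hfix O (Nat.card K)
    (one_of_pow_card hq hexp hcop hKM) hOle hOcard hsup U hUM
  set A : Subgroup V := ⨆ L ∈ O, U ⊓ fixBy L with hA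
  set U' : Subgroup V := U ⊓ ⨅ L ∈ O, (normMap L).ker with hU'
  have hmemU' : ∀ v, v ∈ U' ↔ v ∈ U ∧ ∀ L ∈ O, normMap L v = 1 := by
    intro v; simp [hU', Subgroup.mem_iInf]
  have hWA : ∀ L ∈ O, U ⊓ fixBy L ≤ A := fun L hL =>
    le_iSup₂ (f := fun L (_ : L ∈ O) => U ⊓ fixBy (V := V) L) L hL
  have hAU : A ≤ U := iSup₂_le fun L _ => inf_le_left
  have hA_inv : ∀ m ∈ M, ∀ v ∈ A, (x * m) • v ∈ A := by
    intro m hm
    have : A ≤ A.comap (MulDistribMulAction.toMonoidHom V (x * m)) := by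
      refine iSup₂_le fun L hL w hw => ?_
      show (x * m) • w ∈ A
      refine hWA _ (hmapO L hL) (mem_inf.mpr ⟨?_, ?_⟩)
      · rw [mul_smul]; exact hUx _ (hUM m hm w hw.1)
      · rw [← map_conj_mul_eq hcomm hm (hOle L hL)]
        rintro _ ⟨k, hk, rfl⟩
        show (x * m * k * (x * m)⁻¹) • (x * m) • w = (x * m) • w
        rw [smul_smul, inv_mul_cancel_right, mul_smul, hw.2 k hk]
    exact fun v hv => this hv
  have hU'M : ∀ m ∈ M, ∀ v ∈ U', m • v ∈ U' := by
    intro m hm v hv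
    refine (hmemU' _).mpr ⟨hUM m hm v hv.1, fun L hL => ?_⟩
    have e := smul_normMap m L v
    rw [map_conj_eq_self_of_commute fun k hk => hcomm m hm k (hOle L hL hk),
      ((hmemU' v).mp hv).2 L hL, smul_one] at e
    exact e.symm
  have hU'x : ∀ v ∈ U', x • v ∈ U' := by
    intro v hv
    refine (hmemU' _).mpr ⟨hUx v hv.1, fun L hL => ?_⟩
    obtain ⟨L', hL', rfl⟩ := hpreO L hL
    rw [← smul_normMap, ((hmemU' v).mp hv).2 L' hL', smul_one]
  have hW : U ⊓ fixBy K ≤ A := hWA K hKO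
  have hWne : 1 < Nat.card (U ⊓ fixBy K : Subgroup V) := one_lt_card_iff_ne_bot _ |>.mpr hKfix
  have hcardU : Nat.card A * Nat.card U' = Nat.card U := by
    rw [← card_sup_of_inf_eq_bot hdisj, hsupU]
  have hlt : Nat.card U' < Nat.card U := by
    rw [← hcardU]
    exact lt_mul_left Nat.card_pos (hWne.trans_le (Subgroup.card_le_of_le hW))
  have hboundA : ∏ m : M, Nat.card (A ⊓ fixAt (x * (m : Γ)) : Subgroup V) ^ 2 ≤
      Nat.card A ^ Nat.card M := by
    by_cases hKx : K.map (MulAut.conj x).toMonoidHom = K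
    · have hO1 : ∀ L ∈ O, L = K := hOind (fun L => L = K) rfl fun L _ e => by rw [e, hKx]
      have hAW : A ≤ fixBy K := iSup₂_le fun L hL => (hO1 L hL) ▸ inf_le_right
      obtain ⟨n, hn, hnK⟩ : ∃ n ∈ M, n ∉ K := by
        by_contra hc
        push Not at hc
        exact hKne (le_antisymm hKM hc)
      exact bound_of_fixed hfix hn (hhyp n hn hnK) hAW x
    · calc _ ≤ ∏ _m : M, Nat.card A := Finset.prod_le_prod' fun m _ =>
            bound_of_moved hfix (map_conj_mul_eq hcomm m.2 hKM)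
              (hsup K hKO _ (hmapO K hKO) (Ne.symm hKx)) hW inf_le_right
              (fun v hv => mem_inf.mpr
                ⟨normMap_mem_of_invariant (fun k hk => hUM k (hKM hk)) (hAU hv), normMap_mem K v⟩)
              (fun v hv hy h1 => by
                have hall : ∀ L ∈ O, normMap L v = 1 :=
                  hOind (fun L => normMap L v = 1) h1 fun L hL hL1 => by
                    have e := smul_normMap (x * (m : Γ)) L v
                    rw [hL1, smul_one, hy, map_conj_mul_eq hcomm m.2 (hOle L hL)] at e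
                    exact e.symm
                have hz : v ∈ A ⊓ U' := mem_inf.mpr ⟨hv, (hmemU' v).mpr ⟨hAU hv, hall⟩⟩
                rwa [hdisj, mem_bot] at hz)
        _ = _ := by rw [Finset.prod_const, Finset.card_univ, Fintype.card_eq_nat_card]
  calc ∏ m : M, Nat.card (U ⊓ fixAt (x * (m : Γ)) : Subgroup V) ^ 2
      = (∏ m : M, Nat.card (A ⊓ fixAt (x * (m : Γ)) : Subgroup V) ^ 2) *
          ∏ m : M, Nat.card (U' ⊓ fixAt (x * (m : Γ)) : Subgroup V) ^ 2 := by
        rw [← Finset.prod_mul_distrib]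
        refine Finset.prod_congr rfl fun m _ => ?_
        rw [card_inf_fixAt hdisj hsupU (hA_inv m m.2)
          (fun v hv => by rw [mul_smul]; exact hU'x _ (hU'M m m.2 v hv)), mul_pow]
    _ ≤ Nat.card A ^ Nat.card M * Nat.card U' ^ Nat.card M :=
        Nat.mul_le_mul hboundA (ih _ hlt U' hU'M hU'x rfl)
    _ = _ := by rw [← mul_pow, hcardU]

end coset

/-- A solvable group acting irreducibly and non-trivially on an abelian group. -/
theorem prod_fixAt_sq_le {Γ V : Type*} [Group Γ] [Fintype Γ] [CommGroup V] [Finite V]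
    [MulDistribMulAction Γ V] [Group.IsSolvable Γ]
    (hirr : ∀ U : Subgroup V, (∀ g : Γ, ∀ v ∈ U, g • v ∈ U) → U = ⊥ ∨ U = ⊤)
    (hnt : ∃ (g : Γ) (v : V), g • v ≠ v) :
    ∏ g : Γ, Nat.card (fixAt g : Subgroup V) ^ 2 ≤ Nat.card V ^ Nat.card Γ := by
  classical
  let φ := MulDistribMulAction.toMulAut Γ V
  haveI : Finite φ.range := Finite.of_surjective φ.rangeRestrict φ.rangeRestrict_surjective
  haveI : Group.IsSolvable φ.range := Group.isSolvable_of_surjective φ.rangeRestrict_surjective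
  have hbar : ∀ (g : Γ) (v : V), φ.rangeRestrict g • v = g • v := fun _ _ => rfl
  obtain ⟨g₀, v₀, hg₀⟩ := hnt
  have htop : (⊤ : Subgroup φ.range) ≠ ⊥ := by
    intro e
    refine hg₀ ?_
    rw [← hbar, show φ.rangeRestrict g₀ = 1 from mem_bot.mp (e ▸ mem_top _), one_smul]
  obtain ⟨M, hMn, hMne, -, hMmin⟩ :=
    MinimalNormal.exists_minimal_normal_le (inferInstance : (⊤ : Subgroup φ.range).Normal) htop
  obtain ⟨⟨⟨hc⟩⟩, q, hq, hexp⟩ := MinimalNormal.elementaryAbelian M hMne hMmin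
  have hcomm : ∀ a ∈ M, ∀ b ∈ M, a * b = b * a := fun a ha b hb =>
    congrArg Subtype.val (hc ⟨a, ha⟩ ⟨b, hb⟩)
  have hfixM : (fixBy M : Subgroup V) = ⊥ := by
    refine (hirr (fixBy M) fun g v hv s hs => ?_).resolve_right fun e => hMne ?_
    · have h1 := hMn.conj_mem s hs (φ.rangeRestrict g)⁻¹
      rw [← hbar, smul_smul, show s * φ.rangeRestrict g =
        φ.rangeRestrict g * ((φ.rangeRestrict g)⁻¹ * s * ((φ.rangeRestrict g)⁻¹)⁻¹) by group,
        mul_smul, hv _ h1]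
    · refine eq_bot_iff.mpr fun m hm => mem_bot.mpr (Subtype.ext (MulEquiv.ext fun v => ?_))
      exact (e ▸ mem_top v : v ∈ fixBy M) m hm
  haveI : Fact q.Prime := ⟨hq⟩
  have hMp : IsPGroup q M := fun m => ⟨1, by rw [pow_one]; exact Subtype.ext (hexp m m.2)⟩
  have hcop : (Nat.card V).Coprime q := by
    refine ((hq.coprime_iff_not_dvd).mpr fun hd => ?_).symm
    obtain ⟨v, hv, hv1⟩ := hMp.exists_fixed_point_of_prime_dvd_card_of_fixed_point V hd
      (a := (1 : V)) (fun m => smul_one m)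
    have hmem : v ∈ (fixBy M : Subgroup V) := fun s hs => hv ⟨s, hs⟩
    rw [hfixM, mem_bot] at hmem
    exact hv1 hmem.symm
  letI := Fintype.ofFinite M
  set f : φ.range → ℕ := fun y => Nat.card (fixAt y : Subgroup V) ^ 2 with hf
  have hfg : ∀ g : Γ, Nat.card (fixAt g : Subgroup V) ^ 2 = f (φ.rangeRestrict g) := fun g => by
    rw [hf]; rfl
  simp only [hfg]
  have hshift : ∀ m : M, ∏ g : Γ, f (φ.rangeRestrict g * m) = ∏ g : Γ, f (φ.rangeRestrict g) := by
    intro m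
    obtain ⟨l, hl⟩ := φ.rangeRestrict_surjective (m : φ.range)
    exact Fintype.prod_equiv (Equiv.mulRight l) _ _ fun g => by
      rw [Equiv.coe_mulRight, map_mul, hl]
  refine (Nat.pow_le_pow_iff_left (Nat.card_pos (α := M)).ne').mp ?_
  calc (∏ g : Γ, f (φ.rangeRestrict g)) ^ Nat.card M
      = ∏ m : M, ∏ g : Γ, f (φ.rangeRestrict g * m) := by
        rw [Finset.prod_congr rfl fun m _ => hshift m, Finset.prod_const, Finset.card_univ,
          Fintype.card_eq_nat_card]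
    _ = ∏ g : Γ, ∏ m : M, f (φ.rangeRestrict g * m) := Finset.prod_comm
    _ ≤ ∏ _g : Γ, Nat.card V ^ Nat.card M := Finset.prod_le_prod' fun g _ => by
        have h := coset_bound (V := V) hq hcomm hexp hcop hfixM (x := φ.rangeRestrict g)
          ((mem_normalizer_iff_map_conj_eq).mp (by rw [normalizer_eq_top_iff.mpr hMn]; exact mem_top _))
          ⊤ (fun _ _ _ _ => mem_top _) (fun _ _ => mem_top _)
        simpa only [top_inf_eq, Subgroup.card_top] using h
    _ = (Nat.card V ^ Nat.card Γ) ^ Nat.card M := by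
        rw [Finset.prod_const, Finset.card_univ, Fintype.card_eq_nat_card, ← pow_mul, ← pow_mul,
          mul_comm]

end Cfsg.Agent.Lib.FixedAverage
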