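import Mathlib
import Cfsg.Prelude.Def_Blocks
import Cfsg.Agent.Lib.FixedAverage.Main
import Cfsg.Agent.Lib.Clifford.GoingDown
import Cfsg.Agent.Lib.Chars.PResidualDegree
import Cfsg.Agent.Lib.MinimalNormal

/-!
In a solvable group the p-part of the degree of a primitive character divides the p-part of the
size of some conjugacy class.
-/

set_option autoImplicit false

namespace Cfsg.Agent.Lib.FixedAverage

open Subgroup
open Cfsg.Agent.Lib.Clifford (conjFun resFun resTo)

universe u

variable {G : Type u} [Group G] [Fintype G]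

theorem card_eq_inf_mul_map (S L : Subgroup G) [L.Normal] :
    Nat.card S = Nat.card (S ⊓ L : Subgroup G) * Nat.card (S.map (QuotientGroup.mk' L)) := by
  set f := (QuotientGroup.mk' L).comp S.subtype with hf
  rw [← card_mul_index f.ker, Subgroup.index_ker, hf, MonoidHom.range_comp, range_subtype]
  congr 1
  refine Nat.card_congr ?_
  exact {
    toFun := fun x => ⟨(x : S), mem_inf.mpr ⟨(x : S).2,
      (QuotientGroup.eq_one_iff _).mp (MonoidHom.mem_ker.mp x.2)⟩⟩
    invFun := fun y => ⟨⟨(y : G), (mem_inf.mp y.2).1⟩,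
      MonoidHom.mem_ker.mpr ((QuotientGroup.eq_one_iff _).mpr (mem_inf.mp y.2).2)⟩
    left_inv := fun _ => rfl
    right_inv := fun _ => rfl }

theorem exists_constituent (χ : Cfsg.IrrCharacter G) (N : Subgroup G) [Fintype N] :
    ∃ θ : Cfsg.IrrCharacter N, Cfsg.classInner (resFun N (χ : G → ℂ)) (θ : N → ℂ) ≠ 0 := by
  classical
  obtain ⟨m, hm⟩ := Chars.isCharacter_exists_nat_decomp
    (Chars.isCharacter_restrict N (Chars.irr_isCharacter χ))
  obtain ⟨θ, hθ⟩ : ∃ θ, m θ ≠ 0 := by
    by_contra h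
    push Not at h
    have h1 := congrFun hm 1
    simp [h] at h1
    exact Chars.irr_apply_one_ne_zero χ h1
  refine ⟨θ, ?_⟩
  show Cfsg.classInner (fun x : N => (χ : G → ℂ) x) _ ≠ 0
  rw [hm, Chars.classInner_sum_smul_irr, Nat.cast_ne_zero]
  exact hθ

theorem eq_of_classInner_ne_zero {H : Type*} [Group H] [Fintype H] {φ ψ : H → ℂ}
    (hφ : Cfsg.IsIrrCharacter H φ) (hψ : Cfsg.IsIrrCharacter H ψ)
    (h : Cfsg.classInner φ ψ ≠ 0) : φ = ψ := by
  by_contra hne
  exact h (Chars.classInner_irr_of_ne (χ := ⟨φ, hφ⟩) (ψ := ⟨ψ, hψ⟩)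
    fun e => hne (Subtype.ext_iff.mp e))

/-- A primitive character has invariant constituents on every normal subgroup. -/
theorem invariant_of_primitive (χ : Cfsg.IrrCharacter G)
    (hprim : ¬ ∃ (H : Subgroup G), H ≠ ⊤ ∧ ∃ θ : ↥H → ℂ, Cfsg.IsCharacter ↥H θ ∧
      Cfsg.indFun H θ = (χ : G → ℂ))
    (N : Subgroup G) [N.Normal] [Fintype N] {θ : N → ℂ} (hθ : Cfsg.IsIrrCharacter N θ)
    (h : Cfsg.classInner (resFun N (χ : G → ℂ)) θ ≠ 0) (g : G) : conjFun g θ = θ := by
  classical
  let T : Subgroup G :=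
    { carrier := {g | conjFun g θ = θ}
      one_mem' := Clifford.conjFun_one θ
      mul_mem' := fun {a b} ha hb => by
        show conjFun (a * b) θ = θ
        rw [Clifford.conjFun_mul, ha, hb]
      inv_mem' := fun {a} ha => by
        show conjFun a⁻¹ θ = θ
        conv_lhs => rw [← (ha : conjFun a θ = θ), ← Clifford.conjFun_mul, mul_inv_cancel,
          Clifford.conjFun_one] }
  have hNT : N ≤ T := by
    intro n hn
    show conjFun n θ = θ
    funext m
    exact Chars.irr_isClassFunction ⟨θ, hθ⟩ m ⟨n, hn⟩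
  obtain ⟨ψ, hψ, hind, -⟩ :=
    Clifford.exists_clifford_correspondent hθ (T := T) (fun _ => Iff.rfl) hNT χ.2 h
  have hT : T = ⊤ := by
    by_contra hne
    exact hprim ⟨T, hne, ψ, Chars.isCharacter_of_isIrrCharacter hψ, hind⟩
  exact (hT ▸ mem_top g : g ∈ T)

theorem factorization_bound {p q d : ℕ} (hp : p.Prime) (hq : q.Prime) {ι : Type*} [Fintype ι]
    (f : ι → ℕ) (hf : ∀ i, f i ∣ q ^ d) (h : ∏ i, f i ^ 2 ≤ (q ^ d) ^ Fintype.card ι) :
    2 * ∑ i, (f i).factorization p ≤ Fintype.card ι * (q ^ d).factorization p := by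
  choose a ha₀ ha using fun i => (Nat.dvd_prime_pow hq).mp (hf i)
  simp only [ha, Nat.Prime.factorization_pow hq] at h ⊢
  by_cases hpq : q = p
  · subst hpq
    simp only [Finsupp.single_eq_same]
    simp only [← pow_mul] at h
    rw [Finset.prod_pow_eq_pow_sum, ← Finset.sum_mul] at h
    rw [mul_comm 2, mul_comm (Fintype.card ι)]
    exact (Nat.pow_le_pow_iff_right hq.one_lt).mp h
  · simp [Finsupp.single_eq_of_ne' hpq]

/-- The inductive statement along a chief series. -/
theorem primitive_degree_bound [Group.IsSolvable G] {p : ℕ} (hp : p.Prime)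
    (χ : Cfsg.IrrCharacter G)
    (hinv : ∀ (N : Subgroup G) [N.Normal] [Fintype N] (θ : N → ℂ), Cfsg.IsIrrCharacter N θ →
      Cfsg.classInner (resFun N (χ : G → ℂ)) θ ≠ 0 → ∀ g : G, conjFun g θ = θ)
    (K : Subgroup G) [K.Normal] [Fintype K] :
    ∃ (θ : K → ℂ) (d : ℕ), Cfsg.IsIrrCharacter K θ ∧
      Cfsg.classInner (resFun K (χ : G → ℂ)) θ ≠ 0 ∧ θ 1 = d ∧
      Nat.card G * d.factorization p +
          ∑ g : G, (Nat.card (K ⊓ centralizer ({g} : Set G) : Subgroup G)).factorization p ≤
        Nat.card G * (Nat.card K).factorization p := by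
  classical
  induction hn : Nat.card K using Nat.strong_induction_on generalizing K with
  | _ n ih =>
  subst hn
  obtain ⟨θ, hθ⟩ := exists_constituent χ K
  obtain ⟨hd0, hd⟩ := Chars.charDegree_spec θ
  refine ⟨θ, Cfsg.charDegree (θ : K → ℂ), θ.2, hθ, hd, ?_⟩
  by_cases hK : K = ⊥
  · subst hK
    haveI : IsMulCommutative (⊥ : Subgroup G) := ⟨⟨fun a b => Subsingleton.elim _ _⟩⟩
    rw [Chars.irr_apply_one_of_comm θ] at hd
    rw [show Cfsg.charDegree (θ : (⊥ : Subgroup G) → ℂ) = 1 by exact_mod_cast hd.symm]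
    simp
  -- a chief factor below `K`
  obtain ⟨L, ⟨hLn, hLK⟩, hLmax⟩ := Set.exists_max_image {L : Subgroup G | L.Normal ∧ L < K}
    (fun L => Nat.card L) (Set.toFinite _) ⟨⊥, inferInstance, bot_lt_iff_ne_bot.mpr hK⟩
  haveI : L.Normal := hLn
  letI := Fintype.ofFinite L
  have hchief : ∀ M : Subgroup G, M.Normal → L ≤ M → M ≤ K → M = L ∨ M = K := fun M hM hLM hMK => by
    rcases eq_or_lt_of_le hMK with h | h
    · exact Or.inr h
    · exact Or.inl (eq_of_le_of_card_ge hLM (hLmax M ⟨hM, h⟩)).symm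
  set π := QuotientGroup.mk' L with hπ
  set V := K.map π with hV
  haveI hVn : V.Normal := Normal.map inferInstance π (QuotientGroup.mk'_surjective L)
  have hVmin : ∀ M : Subgroup (G ⧸ L), M.Normal → M ≤ V → M = ⊥ ∨ M = V := by
    intro M hM hMV
    have h1 : L ≤ M.comap π := fun x hx => by
      show π x ∈ M
      rw [hπ, QuotientGroup.mk'_apply, (QuotientGroup.eq_one_iff x).mpr hx]
      exact one_mem M
    have h2 : M.comap π ≤ K := by
      refine (comap_mono hMV).trans ?_
      rw [hV, comap_map_eq, hπ, QuotientGroup.ker_mk', sup_eq_left.mpr hLK.le]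
    rcases hchief _ (hM.comap π) h1 h2 with h | h
    · left
      rw [← map_comap_eq_self_of_surjective (QuotientGroup.mk'_surjective L) M, ← hπ, h, hπ,
        (Subgroup.map_eq_bot_iff _), QuotientGroup.ker_mk']
    · right
      rw [← map_comap_eq_self_of_surjective (QuotientGroup.mk'_surjective L) M, ← hπ, h]
  have hV1 : V ≠ ⊥ := fun e => hLK.not_ge (by
    rwa [hV, Subgroup.map_eq_bot_iff, hπ, QuotientGroup.ker_mk'] at e)
  haveI : Group.IsSolvable (G ⧸ L) :=
    Group.isSolvable_of_surjective (QuotientGroup.mk'_surjective L)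
  obtain ⟨hVc, q, hq, hexp⟩ := MinimalNormal.elementaryAbelian V hV1 hVmin
  have hab : ⁅K, K⁆ ≤ L := by
    have h1 : (⁅K, K⁆).map π = ⊥ := by
      rw [Subgroup.map_commutator, ← hV, commutator_eq_bot_iff_le_centralizer]
      exact fun a ha => mem_centralizer_iff.mpr fun b hb =>
        congrArg Subtype.val (hVc.is_comm.comm ⟨b, hb⟩ ⟨a, ha⟩)
    rwa [Subgroup.map_eq_bot_iff, hπ, QuotientGroup.ker_mk'] at h1
  haveI : Fact q.Prime := ⟨hq⟩
  obtain ⟨dV, hdV⟩ := IsPGroup.iff_card.mp (show IsPGroup q V from fun x =>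
    ⟨1, by rw [pow_one]; exact Subtype.ext (hexp x x.2)⟩)
  have hcardK : Nat.card K = Nat.card L * Nat.card V := by
    rw [card_eq_inf_mul_map K L, inf_eq_right.mpr hLK.le]
  have hrel : L.relIndex K = Nat.card V := by
    have h := Subgroup.card_mul_index (L.subgroupOf K)
    rw [Nat.card_congr (subgroupOfEquivOfLe hLK.le).toEquiv, hcardK] at h
    exact Nat.eq_of_mul_eq_mul_left Nat.card_pos h
  -- the character below
  obtain ⟨φ, dφ, hφ, hφχ, hφ1, hIH⟩ := ih (Nat.card L) (Set.Finite.card_lt_card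
    (Set.toFinite _) hLK) L rfl
  have hresK := Clifford.resFun_eq_smul_of_invariant χ.2 θ.2 hθ (hinv K _ θ.2 hθ)
  have hresL := Clifford.resFun_eq_smul_of_invariant χ.2 hφ hφχ (hinv L φ hφ hφχ)
  have hprop : ∃ s : ℂ, resTo hLK.le (θ : K → ℂ) = s • φ := by
    refine ⟨(Cfsg.classInner (resFun K (χ : G → ℂ)) (θ : K → ℂ))⁻¹ *
      Cfsg.classInner (resFun L (χ : G → ℂ)) φ, funext fun x => ?_⟩
    have e1 := congrFun hresK ⟨(x : G), hLK.le x.2⟩
    have e2 := congrFun hresL x
    simp only [Pi.smul_apply, smul_eq_mul] at e1 e2 ⊢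
    rw [Clifford.resFun_apply] at e1 e2
    show (θ : K → ℂ) ⟨(x : G), hLK.le x.2⟩ = _
    rw [mul_assoc, ← e2, e1, inv_mul_cancel_left₀ hθ]
  obtain ⟨s, hs⟩ := hprop
  have hinner : ∀ ψ : L → ℂ, Cfsg.IsIrrCharacter L ψ →
      Cfsg.classInner (resTo hLK.le (θ : K → ℂ)) ψ ≠ 0 → ψ = φ := fun ψ hψ h => by
    rw [hs, Chars.classInner_smul_left] at h
    exact (eq_of_classInner_ne_zero hφ hψ (right_ne_zero_of_mul h)).symm
  obtain ⟨e, hdeg, he⟩ : ∃ e : ℕ, Cfsg.charDegree (θ : K → ℂ) = e * dφ ∧
      (e = 1 ∨ e ^ 2 = Nat.card V) := by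
    have hone : resTo hLK.le (θ : K → ℂ) 1 = Cfsg.charDegree (θ : K → ℂ) := hd
    rcases Clifford.going_down K L hLK hchief hab θ.2 (hinv K _ θ.2 hθ) with h | h | h
    · refine ⟨1, ?_, Or.inl rfl⟩
      have := hinner _ h (by rw [Chars.classInner_irr_self ⟨_, h⟩]; exact one_ne_zero)
      rw [this, hφ1] at hone
      rw [one_mul]
      exact_mod_cast hone.symm
    · obtain ⟨φ', e, hφ', hres, he⟩ := h
      rw [hrel] at he
      have he0 : e ≠ 0 := fun h0 => by
        rw [h0, sq, zero_mul] at he
        exact Nat.card_pos.ne he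
      have := hinner φ' hφ' (by
        rw [hres, Chars.classInner_smul_left, Chars.classInner_irr_self ⟨φ', hφ'⟩, mul_one]
        exact_mod_cast he0)
      subst this
      refine ⟨e, ?_, Or.inr he⟩
      rw [hres, Pi.smul_apply, hφ1, smul_eq_mul] at hone
      exact_mod_cast hone.symm
    · exfalso
      obtain ⟨F, hF, hFc, hFs⟩ := h
      have hall : ∀ ψ ∈ F, ψ = φ := fun ψ hψ => hinner ψ (hF ψ hψ) (by
        rw [hFs, Chars.classInner_sum_left, Finset.sum_eq_single ψ
          (fun ψ' hψ' hne => Chars.classInner_irr_of_ne (χ := ⟨ψ', hF ψ' hψ'⟩)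
            (ψ := ⟨ψ, hF ψ hψ⟩) fun e => hne (Subtype.ext_iff.mp e))
          (fun h => absurd hψ h), Chars.classInner_irr_self ⟨ψ, hF ψ hψ⟩]
        exact one_ne_zero)
      have h1 : F.card ≤ 1 := Finset.card_le_one.mpr fun a ha b hb => by rw [hall a ha, hall b hb]
      have h2 : 1 < Nat.card V := (one_lt_card_iff_ne_bot V).mpr hV1
      omega
  -- the action on the chief factor
  letI : CommGroup V := { (inferInstance : Group V) with mul_comm := hVc.is_comm.comm }
  letI : MulDistribMulAction G V :=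
    MulDistribMulAction.compHom V ((MulAut.conjNormal (H := V)).comp π)
  have hsmul : ∀ (g : G) (v : V), ((g • v : V) : G ⧸ L) = π g * v * (π g)⁻¹ := fun g v =>
    MulAut.conjNormal_apply (π g) v
  have hfix : ∀ g : G, (Nat.card (K ⊓ centralizer ({g} : Set G) : Subgroup G)).factorization p ≤
      (Nat.card (L ⊓ centralizer ({g} : Set G) : Subgroup G)).factorization p +
        (Nat.card (fixAt g : Subgroup V)).factorization p := by
    intro g
    set S := K ⊓ centralizer ({g} : Set G) with hS
    have hSV : S.map π ≤ V := map_mono inf_le_left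
    have hdvd : Nat.card (S.map π) ∣ Nat.card (fixAt g : Subgroup V) := by
      rw [← Nat.card_congr (subgroupOfEquivOfLe hSV).toEquiv]
      refine card_dvd_of_le fun v hv => Subtype.ext ?_
      obtain ⟨x, hx, hxv'⟩ := (hv : (v : G ⧸ L) ∈ S.map π)
      have hxv : π x = (v : G ⧸ L) := hxv'
      rw [hsmul, ← hxv, ← map_inv, ← map_mul, ← map_mul]
      congr 1
      rw [← mem_centralizer_singleton_iff.mp hx.2]
      group
    rw [card_eq_inf_mul_map S L,
      show S ⊓ L = L ⊓ centralizer ({g} : Set G) by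
        rw [hS, inf_right_comm, inf_eq_right.mpr hLK.le],
      Nat.factorization_mul Nat.card_pos.ne' Nat.card_pos.ne']
    simp only [Finsupp.add_apply]
    exact Nat.add_le_add_left ((Nat.factorization_le_iff_dvd Nat.card_pos.ne'
      Nat.card_pos.ne').mpr hdvd p) _
  have hfac : ∀ g : G, (Nat.card (fixAt g : Subgroup V)).factorization p ≤
      (Nat.card V).factorization p := fun g =>
    (Nat.factorization_le_iff_dvd Nat.card_pos.ne' Nat.card_pos.ne').mpr
      (card_subgroup_dvd_card _) p
  have hsum : Nat.card G * e.factorization p +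
      ∑ g : G, (Nat.card (fixAt g : Subgroup V)).factorization p ≤
        Nat.card G * (Nat.card V).factorization p := by
    rcases he with he | he
    · subst he
      simp only [Nat.factorization_one, Finsupp.coe_zero, Pi.zero_apply, mul_zero, zero_add]
      calc ∑ g : G, (Nat.card (fixAt g : Subgroup V)).factorization p
          ≤ ∑ _g : G, (Nat.card V).factorization p := Finset.sum_le_sum fun g _ => hfac g
        _ = _ := by rw [Finset.sum_const, Finset.card_univ, Fintype.card_eq_nat_card, smul_eq_mul]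
    · have hirr : ∀ U : Subgroup V, (∀ g : G, ∀ v ∈ U, g • v ∈ U) → U = ⊥ ∨ U = ⊤ := by
        intro U hU
        have hn : (U.map V.subtype).Normal := ⟨by
          rintro _ ⟨v, hv, rfl⟩ y
          obtain ⟨g, rfl⟩ := QuotientGroup.mk'_surjective L y
          exact ⟨g • v, hU g v hv, hsmul g v⟩⟩
        rcases hVmin _ hn (map_subtype_le U) with h | h
        · exact Or.inl ((map_eq_bot_iff_of_injective U V.subtype_injective).mp h)
        · refine Or.inr (map_injective (f := V.subtype) V.subtype_injective ?_)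
          rw [h, ← MonoidHom.range_eq_map, range_subtype]
      have hnt : ∃ (g : G) (v : V), g • v ≠ v := by
        by_contra hc
        push Not at hc
        obtain ⟨v, hv⟩ := ne_bot_iff_exists_ne_one.mp hV1
        have htop := (hirr (zpowers v) fun g w hw => by rwa [hc g w]).resolve_left
          (zpowers_ne_bot.mpr hv)
        have hcard : Nat.card V = q := by
          rw [← (card_top (G := V)), ← htop, Nat.card_zpowers]
          exact orderOf_eq_prime (Subtype.ext (hexp v v.2)) hv
        rw [hcard] at he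
        exact hq.not_isSquare ⟨e, by rw [← he, sq]⟩
      have havg := prod_fixAt_sq_le hirr hnt
      rw [hdV] at havg
      have hb := factorization_bound (d := dV) hp hq
        (fun g : G => Nat.card (fixAt g : Subgroup V))
        (fun g => hdV ▸ card_subgroup_dvd_card _)
        (by rwa [Fintype.card_eq_nat_card])
      rw [← hdV, Fintype.card_eq_nat_card] at hb
      have he2 : 2 * e.factorization p = (Nat.card V).factorization p := by
        rw [← he, Nat.factorization_pow]; simp
      rw [← he2] at hb ⊢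
      nlinarith [hb]
  have he0 : e ≠ 0 := fun h => by rw [h, zero_mul] at hdeg; omega
  have hφ0 : dφ ≠ 0 := fun h => by rw [h, mul_zero] at hdeg; omega
  rw [hdeg, Nat.factorization_mul he0 hφ0, hcardK,
    Nat.factorization_mul Nat.card_pos.ne' Nat.card_pos.ne']
  simp only [Finsupp.add_apply, Nat.mul_add]
  have h3 := Finset.sum_le_sum fun g (_ : g ∈ (Finset.univ : Finset G)) => hfix g
  rw [Finset.sum_add_distrib] at h3
  omega

/-- In a solvable group the p-part of the degree of a primitive character divides a class size. -/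
theorem exists_class_size_factorization [Group.IsSolvable G] (χ : Cfsg.IrrCharacter G)
    (hprim : ¬ ∃ (H : Subgroup G), H ≠ ⊤ ∧ ∃ θ : ↥H → ℂ, Cfsg.IsCharacter ↥H θ ∧
      Cfsg.indFun H θ = (χ : G → ℂ))
    {p : ℕ} (hp : p.Prime) :
    ∃ g : G, (Cfsg.charDegree (χ : G → ℂ)).factorization p ≤
      ((centralizer ({g} : Set G)).index).factorization p := by
  classical
  letI := Fintype.ofFinite (⊤ : Subgroup G)
  obtain ⟨θ, d, hθ, hθχ, hd, hb⟩ := primitive_degree_bound hp χ
    (fun N _ _ θ h1 h2 g => invariant_of_primitive χ hprim N h1 h2 g) ⊤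
  have hres := Clifford.resFun_eq_smul_of_invariant χ.2 hθ hθχ
    (invariant_of_primitive χ hprim ⊤ hθ hθχ)
  have hirr : Cfsg.IsIrrCharacter (⊤ : Subgroup G) (resFun ⊤ (χ : G → ℂ)) :=
    Clifford.isIrrCharacter_comp_equiv (Subgroup.topEquiv (G := G)) χ.2
  rw [← eq_of_classInner_ne_zero hirr hθ hθχ] at hd
  have hdeg : Cfsg.charDegree (χ : G → ℂ) = d := by
    have h := (Chars.charDegree_spec χ).2
    rw [show (χ : G → ℂ) 1 = d from hd] at h
    exact_mod_cast h.symm
  by_contra hne
  push Not at hne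
  rw [hdeg] at hne
  simp only [top_inf_eq, card_top] at hb
  have hlt : ∑ g : G, (((centralizer ({g} : Set G)).index).factorization p +
      (Nat.card (centralizer ({g} : Set G))).factorization p) <
      ∑ g : G, (d.factorization p + (Nat.card (centralizer ({g} : Set G))).factorization p) :=
    Finset.sum_lt_sum_of_nonempty Finset.univ_nonempty fun g _ => Nat.add_lt_add_right (hne g) _
  have hidx : ∀ g : G, ((centralizer ({g} : Set G)).index).factorization p +
      (Nat.card (centralizer ({g} : Set G))).factorization p = (Nat.card G).factorization p := by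
    intro g
    rw [← Finsupp.add_apply, ← Nat.factorization_mul Subgroup.FiniteIndex.index_ne_zero
      Nat.card_pos.ne', index_mul_card]
  simp only [hidx, Finset.sum_add_distrib, Finset.sum_const, Finset.card_univ,
    Fintype.card_eq_nat_card, smul_eq_mul] at hlt
  omega

end Cfsg.Agent.Lib.FixedAverage
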